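import Cfsg.Agent.Omega.TwoF.TitsAut
import Cfsg.Agent.QTNorm.SporNormal

/-!
# Self-normalising Sylow 2-subgroups: the Tits group (helper768)
-/

set_option autoImplicit false

namespace Cfsg.Agent.H768.SelfTits

open Cfsg Subgroup Cfsg.Agent.QTNorm Cfsg.Agent.Omega.TwoF.TitsAut Cfsg.Agent.ChevalleyStructure.Tits.Data
  Cfsg.Agent.ChevalleyStructure.Tits.Rank2
  Cfsg.Agent.ChevalleyStructure.Tits.Sat Cfsg.Agent.ChevalleyStructure.Tits.Final
  Cfsg.Agent.ChevalleyStructure.Tits.Pack Cfsg.Agent.ChevalleyStructure.Tits.Mat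
  Cfsg.Agent.ChevalleyStructure.Tits.Order Cfsg.Agent.ChevalleyStructure.Tits.Main
open scoped MatrixGroups

theorem selfN_H0 : SelfN (commutator H0) := by
  have hf : Fact (Nat.Prime 2) := ⟨Nat.prime_two⟩
  have := fin_H0
  have hpU : IsPGroup 2 (V yH 0) := IsPGroup.of_card (p := 2) (n := 12) (by rw [card_V_yH]; norm_num)
  have hiU : ¬ 2 ∣ (V yH 0).index := by
    have h1 := card_mul_index (V yH 0)
    rw [card_V_yH, card_H0] at h1
    omega
  have hp : IsPGroup 2 ((V yH 0).subgroupOf (commutator H0)) := hpU.comap_of_injective _ (subtype_injective _)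
  have hi : ¬ 2 ∣ ((V yH 0).subgroupOf (commutator H0)).index :=
    not_dvd_index_inf (hpU.toSylow hiU) (commutator H0)
  refine selfN_of_odd (hp.toSylow hi) fun x hx ho => ?_
  have hx' : x ∈ normalizer (((V yH 0).subgroupOf (commutator H0) : Subgroup (commutator H0)) :
    Set (commutator H0)) := hx
  have hX := card_X Sat_yH (yH_ne_one (by norm_num)) yH7_sq
  have hG : (rd Sat_yH).G = ⊤ := by rw [rd_G Sat_yH, gen_yH]
  obtain ⟨h0, h8, h9, h77⟩ := comm_image Sat_yH (Abelianization.of (G := H0))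
  have m0 : yH 0 ∈ commutator H0 := by
    rw [← Abelianization.ker_of]
    exact MonoidHom.mem_ker.2 h0
  have m7 : yH 7 * yH 7 ∈ commutator H0 := by
    rw [← Abelianization.ker_of]
    exact MonoidHom.mem_ker.2 (by rw [map_mul]; exact h77)
  set H : Subgroup H0 := normalizer ((V yH 0 ⊓ commutator H0 : Subgroup H0) : Set H0) with hH
  have hUH : (rd Sat_yH).U ≤ H := by
    intro u hu
    rw [hH, mem_normalizer_iff]
    have hu' : u ∈ V yH 0 := hu
    intro y
    have hn : (commutator H0).Normal := inferInstance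
    constructor
    · rintro ⟨h1, h2⟩
      exact ⟨(V yH 0).mul_mem ((V yH 0).mul_mem hu' h1) ((V yH 0).inv_mem hu'), hn.conj_mem _ h2 _⟩
    · rintro ⟨h1, h2⟩
      have e : y = u⁻¹ * (u * y * u⁻¹) * u := by group
      have e' : y = u⁻¹ * (u * y * u⁻¹) * u⁻¹⁻¹ := by group
      refine ⟨?_, ?_⟩
      · rw [e]; exact (V yH 0).mul_mem ((V yH 0).mul_mem ((V yH 0).inv_mem hu') h1) hu'
      · rw [e']; exact hn.conj_mem _ h2 _
  have hxH : (x : H0) ∈ H := by
    rw [hH, mem_normalizer_iff]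
    intro y
    have hn : (commutator H0).Normal := inferInstance
    rw [mem_normalizer_iff] at hx'
    constructor
    · rintro ⟨h1, h2⟩
      exact ⟨(hx' ⟨y, h2⟩).1 h1, hn.conj_mem _ h2 _⟩
    · rintro ⟨h1, h2⟩
      have e' : y = (x : H0)⁻¹ * ((x : H0) * y * (x : H0)⁻¹) * (x : H0)⁻¹⁻¹ := by group
      have h3 : y ∈ commutator H0 := by
        rw [e']; exact hn.conj_mem _ h2 _
      exact ⟨(hx' ⟨y, h3⟩).2 h1, h3⟩
  by_cases hxU : (x : H0) ∈ V yH 0
  · have h1 := eq_one_of_odd_mem (hpU.toSylow hiU) (x := (x : H0)) hxU (by rw [orderOf_coe]; exact ho)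
    exact Subtype.ext h1
  exfalso
  obtain ⟨s, hs⟩ := (rd Sat_yH).exists_n_mem (exists_ne (rd Sat_yH) hX card_V_yH hG card_H0) hUH hxH
    (mem_All (rd Sat_yH) hX card_V_yH hG card_H0 _) hxU
  rw [hH, mem_normalizer_iff] at hs
  have key : ∀ z : H0, z ∈ (rd Sat_yH).X s → z ∈ commutator H0 → z = 1 := by
    intro z hz hz'
    have h1 : z ∈ V yH 0 ⊓ commutator H0 := ⟨(rd Sat_yH).XU s hz, hz'⟩
    have h2 := ((hs z).1 h1).1
    rw [(rd Sat_yH).ninv] at h2
    exact neg_mem_U (rd Sat_yH) hX card_V_yH hG card_H0 hz h2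
  cases s
  · exact yH_ne_one (i := 0) (by norm_num) (key _ (mem_zpowers _) m0)
  · exact yH7_sq (by rw [pow_two]; exact key _ (mul_mem (mem_zpowers _) (mem_zpowers _)) m7)

theorem selfN_aux (T : Subgroup (GL I52 (ZMod 2))) (hT : T = H0) : SelfN (commutator T) := by
  subst hT
  exact selfN_H0

theorem congr_comm {G K : Type*} [Group G] [Group K] [Finite K] (T : Subgroup G) (h : SelfN (commutator T))
    (e : K ≃* commutator T) : SelfN K := by
  have : Finite (commutator T) := Finite.of_equiv K e.toEquiv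
  exact h.congr e.symm

/-- **the Tits group** -/
theorem selfN_tits {K : Type*} [Group K] (h : Cfsg.Lie.IsoTits K) : SelfN K := by
  obtain ⟨T, hT, ⟨e⟩⟩ := exists_equiv h
  have := finite_iso h
  exact congr_comm T (selfN_aux T hT) e

end Cfsg.Agent.H768.SelfTits
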