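import Cfsg.Agent.KFacts.FiTTh.Has
import Cfsg.Agent.KFacts.FiTTh.BasInv
import Cfsg.Agent.H868.SelfN23
import Cfsg.Agent.S1688
import Cfsg.Agent.S1689

/-!
# Self-normalising Sylow 2-subgroups: `Fi23`, `Fi22` (helper768)

* `SelfN.of_odd_index` : subgroups of odd index;
* `SelfN.quot` : quotients by normal 2-subgroups;
* `selfN_fi23`, `selfN_fi22`.
-/

set_option autoImplicit false

namespace Cfsg.Agent.H768.SelfFi

open Cfsg Subgroup Cfsg.Agent.QTNorm

universe u

section General

variable {G : Type*} [Group G] [Finite G]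

/-- subgroups of odd index of a group with self-normalising Sylow 2-subgroups -/
theorem selfN_of_odd_index (h : SelfN G) (H : Subgroup G) (hi : ¬ 2 ∣ H.index) : SelfN H := by
  have hf : Fact (Nat.Prime 2) := ⟨Nat.prime_two⟩
  obtain ⟨T⟩ : Nonempty (Sylow 2 H) := inferInstance
  have hp : IsPGroup 2 ((T : Subgroup H).map H.subtype) := T.isPGroup'.map _
  have hi' : ¬ 2 ∣ ((T : Subgroup H).map H.subtype).index := by
    rw [Subgroup.index_map_subtype]
    exact Nat.prime_two.not_dvd_mul T.not_dvd_index hi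
  refine selfN_of_odd T fun x hx ho => ?_
  have h1 := h (hp.toSylow hi')
  have h2 : (x : G) ∈ normalizer ((((T : Subgroup H).map H.subtype) : Subgroup G) : Set G) := by
    rw [mem_normalizer_iff] at hx ⊢
    intro y
    constructor
    · rintro ⟨t, ht, rfl⟩
      exact ⟨x * t * x⁻¹, (hx t).1 ht, rfl⟩
    · rintro ⟨t, ht, he⟩
      have hy : y = (x : G)⁻¹ * t * x := by
        have : (t : G) = (x : G) * y * (x : G)⁻¹ := he
        rw [this]; group
      have h3 : t = x * (x⁻¹ * t * x) * x⁻¹ := by group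
      rw [h3] at ht
      exact ⟨x⁻¹ * t * x, (hx _).2 ht, by rw [hy]; rfl⟩
  have h3 := h1 h2
  exact Subtype.ext (by
    have := eq_one_of_odd_mem (hp.toSylow hi') h3 (by rw [orderOf_coe]; exact ho)
    exact this)

/-- quotients by normal 2-subgroups -/
theorem selfN_quot (h : SelfN G) (Z : Subgroup G) [Z.Normal] (hZ : IsPGroup 2 Z) : SelfN (G ⧸ Z) := by
  have hf : Fact (Nat.Prime 2) := ⟨Nat.prime_two⟩
  obtain ⟨T⟩ : Nonempty (Sylow 2 G) := inferInstance
  have hZT : Z ≤ (T : Subgroup G) := by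
    obtain ⟨P, hP⟩ := hZ.exists_le_sylow
    obtain ⟨g, hg⟩ := MulAction.exists_smul_eq G P T
    intro z hz
    have h1 : g⁻¹ * z * g ∈ Z := by
      have := (inferInstance : Z.Normal).conj_mem z hz g⁻¹
      rwa [inv_inv] at this
    rw [← hg, Sylow.coe_subgroup_smul]
    exact ⟨g⁻¹ * z * g, hP h1, by
      show g * (g⁻¹ * z * g) * g⁻¹ = z
      group⟩
  have hs := QuotientGroup.mk'_surjective Z
  have hp : IsPGroup 2 ((T : Subgroup G).map (QuotientGroup.mk' Z)) := T.isPGroup'.map _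
  have hi' : ¬ 2 ∣ ((T : Subgroup G).map (QuotientGroup.mk' Z)).index := by
    rw [Subgroup.index_map, QuotientGroup.ker_mk', sup_eq_left.2 hZT,
      MonoidHom.range_eq_top.2 hs, Subgroup.index_top, mul_one]
    exact T.not_dvd_index
  refine SelfN.of_one (hp.toSylow hi') ?_
  intro x hx
  obtain ⟨g, rfl⟩ := hs x
  have hx' : QuotientGroup.mk' Z g ∈ normalizer ((((T : Subgroup G).map (QuotientGroup.mk' Z)) :
    Subgroup (G ⧸ Z)) : Set (G ⧸ Z)) := hx
  have hmem : ∀ y : G, QuotientGroup.mk' Z y ∈ (T : Subgroup G).map (QuotientGroup.mk' Z) ↔ y ∈ (T : Subgroup G) := by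
    intro y
    constructor
    · rintro ⟨t, ht, he⟩
      have h1 : t⁻¹ * y ∈ Z := by
        rw [← QuotientGroup.eq]
        exact he
      have h2 : y = t * (t⁻¹ * y) := by group
      rw [h2]
      exact mul_mem ht (hZT h1)
    · intro hy
      exact ⟨y, hy, rfl⟩
  have h1 : g ∈ normalizer ((T : Subgroup G) : Set G) := by
    rw [mem_normalizer_iff] at hx' ⊢
    intro y
    have h2 := hx' (QuotientGroup.mk' Z y)
    rw [← map_inv, ← map_mul, ← map_mul, hmem, hmem] at h2
    exact h2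
  exact ⟨g, h T h1, rfl⟩

end General

open Cfsg.Agent.KFacts.FiTTh Cfsg.Agent.KFacts.FiTTh.BasDef in
/-- **`Fi23`** -/
theorem selfN_fi23 : SelfN Spor.Fi23 := by
  have hfin := BasInv.finite
  obtain ⟨S, hS⟩ := Has.sheet
  refine SelfN.of_one S ?_
  have hA : normalizer ((S : Subgroup Spor.Fi23) : Set Spor.Fi23) ≤ normalizer (A BasFi.e : Set Spor.Fi23) := by
    intro x hx
    have key : ∀ y ∈ normalizer ((S : Subgroup Spor.Fi23) : Set Spor.Fi23),
        (A BasFi.e).map (MulAut.conj y).toMonoidHom = A BasFi.e := by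
      intro y hy
      apply hS.uniq
      · rintro _ ⟨a, ha, rfl⟩
        exact (mem_normalizer_iff.1 hy a).1 (hS.AS ha)
      · rintro _ ⟨a, ha, rfl⟩
        rw [← map_mul, hS.sq a ha, map_one]
      · rw [← Nat.card_congr ((A BasFi.e).equivMapOfInjective _ (MulAut.conj y).injective).toEquiv]
        exact hS.cardA.ge
    rw [mem_normalizer_iff]
    intro a
    constructor
    · intro ha
      rw [← key x hx]
      exact ⟨a, ha, rfl⟩
    · intro ha
      have h1 := key x⁻¹ (inv_mem hx)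
      rw [← h1]
      exact ⟨_, ha, by
        show x⁻¹ * (x * a * x⁻¹) * x⁻¹⁻¹ = a
        group⟩
  refine self_of_hom S _ hA BasInv.base.ind BasInv.base.ind_surj (fun c hc => ?_) H868.selfN_M23
  have h1 := (BasInv.base.ind_ker c).1 hc
  refine ⟨1, ?_⟩
  apply Subtype.ext
  rw [pow_one, pow_two]
  exact BasInv.base.sq_A h1

/-- **`Fi22`** -/
theorem selfN_fi22 : SelfN Spor.Fi22 := by
  have hfin := Cfsg.Agent.KFacts.FiTTh.BasInv.finite
  have hf : Fact (Nat.Prime 2) := ⟨Nat.prime_two⟩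
  obtain ⟨hc, ⟨e⟩, -⟩ := Cfsg.Agent.S1688.result
  have h2 := Cfsg.Agent.S1689.result.1
  have h3 := selfN_of_odd_index selfN_fi23 _ (by rw [h2]; norm_num)
  exact (selfN_quot h3 _ (IsPGroup.of_card (p := 2) (n := 1) (by rw [hc]; norm_num))).congr e

end Cfsg.Agent.H768.SelfFi
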