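import Cfsg.Agent.H801.PElem
import Cfsg.Agent.H801.Reduct2
import Cfsg.Agent.H759.FusFactor
import Cfsg.Agent.H759.FusNormal
import Cfsg.Agent.H752.Mp

/-!
# Inner factor systems (helper768)

* `isPGroup_autGroup_factor` : if `Aut_F(Q)` is a `p`-group, `Q` the full preimage of `Q'`, then so is `Aut_{F/W}(Q')`;
* `inner_of_factor` : `W` normal in the saturated system `F`, `Aut_F(W)` a `p`-group, `F/W` inner, then `F` is inner.
* `characteristic_preimage`.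
-/

set_option autoImplicit false

namespace Cfsg.Agent.H768

open Cfsg Cfsg.FusionSystem Cfsg.Agent.H759 Cfsg.Agent.H752

variable {Ω : Type*} [Group Ω] {S : Subgroup Ω} {Ω' : Type*} [Group Ω'] {S' : Subgroup Ω'}
variable {F : FusionSystem S} {W : Subgroup Ω} {θ : S →* Ω'} {E : FusionSystem S'}

/-- `Aut_{F/W}(Q')` is an image of `Aut_F(Q)`. -/
theorem isPGroup_autGroup_factor [Finite S] {p : ℕ} (hE : F.IsFactorSystem W θ E)
    {Q' : Subgroup Ω'} (hQ' : Q' ≤ S') (h : IsPGroup p (F.autGroup (preimageAlong θ Q'))) :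
    IsPGroup p (E.autGroup Q') := by
  rintro ⟨α', hα'⟩
  have hfin : Finite (preimageAlong θ Q' : Subgroup Ω) := H802.finite_of_le preimageAlong_le
  obtain ⟨φ, hφ, hφe⟩ := exists_map_of_factor hE ((H802.mem_autGroup_iff E hQ' α').1 hα')
  have hQS : preimageAlong θ Q' ≤ S := preimageAlong_le
  have hmem : ∀ x ∈ preimageAlong θ Q', ex φ x ∈ preimageAlong θ Q' := by
    intro x hx
    rw [ex_apply φ hx]
    obtain ⟨hxS, hxQ⟩ := mem_preimageAlong.1 hx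
    have hy : φ ⟨x, hx⟩ ∈ S := (F.le_of_mem hφ).2 _
    refine mem_preimageAlong.2 ⟨hy, ?_⟩
    rw [← hφe x hx hxS hxQ hy]
    exact (α' ⟨θ ⟨x, hxS⟩, hxQ⟩).2
  obtain ⟨α, hα, hαφ⟩ := (mp_ex hφ).exists_aut hmem
  obtain ⟨k, hk⟩ := h ⟨α, hα⟩
  have hk' : α ^ p ^ k = 1 := congrArg Subtype.val hk
  have key : ∀ (m : ℕ) (x : Ω) (hx : x ∈ preimageAlong θ Q') (hxS : x ∈ S)
      (hx' : θ ⟨x, hxS⟩ ∈ Q'),
      (((α' ^ m) ⟨θ ⟨x, hxS⟩, hx'⟩ : Q') : Ω') =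
        θ ⟨((α ^ m) ⟨x, hx⟩ : preimageAlong θ Q'), hQS ((α ^ m) ⟨x, hx⟩).2⟩ := by
    intro m
    induction m with
    | zero => intro x hx hxS hx'; rfl
    | succ m ih =>
      intro x hx hxS hx'
      have e1 : (α' ^ (m + 1)) ⟨θ ⟨x, hxS⟩, hx'⟩ = (α' ^ m) (α' ⟨θ ⟨x, hxS⟩, hx'⟩) := by
        rw [pow_succ]
        rfl
      have e2 : (α ^ (m + 1)) ⟨x, hx⟩ = (α ^ m) (α ⟨x, hx⟩) := by
        rw [pow_succ]
        rfl
      have hy : φ ⟨x, hx⟩ ∈ S := (F.le_of_mem hφ).2 _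
      have e3 := hφe x hx hxS hx' hy
      have e4 : φ ⟨x, hx⟩ = (α ⟨x, hx⟩ : preimageAlong θ Q') := by
        rw [← hαφ x hx, ex_apply φ hx]
      have e5 : α' ⟨θ ⟨x, hxS⟩, hx'⟩ =
          ⟨θ ⟨((α ⟨x, hx⟩ : preimageAlong θ Q') : Ω), hQS (α ⟨x, hx⟩).2⟩, by
            obtain ⟨_, h2⟩ := mem_preimageAlong.1 (α ⟨x, hx⟩).2
            exact h2⟩ := by
        apply Subtype.ext
        have e6 : ((α' ⟨θ ⟨x, hxS⟩, hx'⟩ : Q') : Ω') = θ ⟨φ ⟨x, hx⟩, hy⟩ := e3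
        rw [e6]
        congr 1
        exact Subtype.ext e4
      rw [e1, e2, e5]
      exact ih _ _ _ _
  refine ⟨k, ?_⟩
  apply Subtype.ext
  show α' ^ p ^ k = 1
  ext y
  obtain ⟨x, hxS, hx, hxy⟩ := exists_preimage_of_mem hE hQ' y.2
  have hx' : θ ⟨x, hxS⟩ ∈ Q' := by rw [hxy]; exact y.2
  have h1 := key (p ^ k) x hx hxS hx'
  rw [hk'] at h1
  have h2 : y = ⟨θ ⟨x, hxS⟩, hx'⟩ := Subtype.ext hxy.symm
  rw [h2, h1]
  rfl

/-- **If `F/W` is inner and `Aut_F(W)` is a `p`-group then `F` is inner.** -/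
theorem inner_of_factor [Finite S] {p : ℕ} [Fact p.Prime] (hS : IsPGroup p S)
    (hF : F.IsSaturated p) (hW : F.IsNormal W) (hE : F.IsFactorSystem W θ E)
    (hin : ∀ P' : Subgroup Ω', E.Hom P' ⊆ (innerFusionSystem S').Hom P')
    (hWp : IsPGroup p (F.autGroup W)) (P : Subgroup Ω) :
    F.Hom P = (innerFusionSystem S).Hom P := by
  refine H801.hom_eq_inner hS hF (fun Q hQ => ?_) P
  by_contra hnp
  have hQS : Q ≤ S := hQ.1
  have hfinQ : Finite Q := H802.finite_of_le hQS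
  obtain ⟨⟨α, hα⟩, hα1, hαp⟩ := H801.exists_pprime_of_not_isPGroup hnp
  have hαp' : (orderOf α).Coprime p := by
    rwa [← Subgroup.orderOf_coe] at hαp
  obtain ⟨β, hβ, hβp, hβα, hβW⟩ := H801.exists_extend_normal hW hQS hα hαp'
  have hsup : Q ⊔ W ≤ S := sup_le hQS hW.1
  have hfinR : Finite ↥(Q ⊔ W) := H802.finite_of_le hsup
  have hfinW : Finite W := H802.finite_of_le hW.1
  have hstr : F.StronglyClosed W := IsNormal.stronglyClosed hW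
  -- `β` is trivial on `W`
  have hWR : W ≤ Q ⊔ W := le_sup_right
  obtain ⟨γ, hγ, hγβ⟩ := H801.exists_restrict_aut (F := F) hsup hWR hβ
    (fun x hx => hβW ⟨x, hWR hx⟩ hx)
  have hγ1 : γ = 1 := by
    have h1 : (⟨γ, hγ⟩ : F.autGroup W) = 1 := by
      refine H801.eq_one_of_isPGroup_of_coprime hWp ?_
      rw [← Subgroup.orderOf_coe]
      exact Nat.Coprime.coprime_dvd_left (H801.orderOf_dvd_of_extends hWR hγβ) hβp
    exact congrArg Subtype.val h1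
  have hβW1 : ∀ x : ↥(Q ⊔ W), (x : Ω) ∈ W → β x = x := by
    intro x hx
    have h1 := hγβ ⟨x, hx⟩
    rw [hγ1] at h1
    exact Subtype.ext h1
  -- `β` acts on `QW/W` as an element of `S`
  have hker := hE.2.1
  have hr := hE.2.2.1
  have hP' : imageAlong θ (Q ⊔ W) ≤ S' := by
    rw [← hr]
    exact imageAlong_le_range
  have hpre : preimageAlong θ (imageAlong θ (Q ⊔ W)) ≤ Q ⊔ W := by
    intro x hx
    obtain ⟨hxS, hx1⟩ := mem_preimageAlong.1 hx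
    obtain ⟨y, hyS, hyQ, hyx⟩ := mem_imageAlong.1 hx1
    have h1 : (y : Ω)⁻¹ * x ∈ W := (theta_eq_iff hE (a := ⟨y, hyS⟩) (b := ⟨x, hxS⟩)).1 hyx
    have h2 : x = y * (y⁻¹ * x) := by group
    rw [h2]
    exact mul_mem hyQ (hWR h1)
  have hβhom := (H802.mem_autGroup_iff F hsup β).1 hβ
  obtain ⟨φ', hφ', hφe⟩ := exists_factor_map hstr hE hβhom hP' hpre
  obtain ⟨-, s', hs', hconj⟩ := hin _ hφ'
  rw [← hr] at hs'
  obtain ⟨s, hs⟩ := hs'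
  have hact : ∀ x : ↥(Q ⊔ W), ((s : Ω) * (x : Ω) * (s : Ω)⁻¹)⁻¹ * ((β x : ↥(Q ⊔ W)) : Ω) ∈ W := by
    intro x
    have hxS : (x : Ω) ∈ S := hsup x.2
    have hx' : θ ⟨x, hxS⟩ ∈ imageAlong θ (Q ⊔ W) := mem_imageAlong.2 ⟨x, hxS, x.2, rfl⟩
    have hy : ((β x : ↥(Q ⊔ W)) : Ω) ∈ S := hsup (β x).2
    have h1 := hφe x x.2 hxS hx' hy
    have h2 := hconj ⟨θ ⟨x, hxS⟩, hx'⟩
    rw [h1] at h2
    have h3 : θ ⟨((β x : ↥(Q ⊔ W)) : Ω), hy⟩ = θ (s * ⟨x, hxS⟩ * s⁻¹) := by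
      rw [map_mul, map_mul, map_inv, hs]
      exact h2
    exact (theta_eq_iff hE (a := s * ⟨x, hxS⟩ * s⁻¹) (b := ⟨((β x : ↥(Q ⊔ W)) : Ω), hy⟩)).1 h3.symm
  have hsW : (s : Ω) ∈ Subgroup.normalizer (W : Set Ω) :=
    StronglyClosed.le_normalizer hstr s.2
  have hsQ : (s : Ω) ∈ Subgroup.normalizer ((Q ⊔ W : Subgroup Ω) : Set Ω) := by
    refine Subgroup.mem_normalizer_fintype fun x hx => ?_
    have h1 := hact ⟨x, hx⟩
    have h2 : (s : Ω) * x * (s : Ω)⁻¹ = ((β ⟨x, hx⟩ : ↥(Q ⊔ W)) : Ω) *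
        (((s : Ω) * x * (s : Ω)⁻¹)⁻¹ * ((β ⟨x, hx⟩ : ↥(Q ⊔ W)) : Ω))⁻¹ := by group
    rw [h2]
    exact mul_mem (β ⟨x, hx⟩).2 (inv_mem (hWR h1))
  have hsp : ∃ k : ℕ, (s : Ω) ^ p ^ k = 1 := by
    obtain ⟨k, hk⟩ := hS s
    exact ⟨k, by rw [← Subgroup.coe_pow, hk]; rfl⟩
  have hβ1 : β = 1 := H801.eq_one_of_act (hS.to_le hsup) hWR hβp hβW1 hsp hsW hsQ hact
  apply hα1
  apply Subtype.ext
  show α = 1
  ext x
  rw [← hβα x, hβ1]
  rfl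

end Cfsg.Agent.H768
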