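import Cfsg.Agent.H793.ZCenter

/-!
# Elements of `Z(S)` fixed by `N_F(W(S))` are central in `F`, for a functor `W` (helper768)

The functor version of `Cfsg.Agent.H793.mem_center_of_local`.
-/

set_option autoImplicit false

namespace Cfsg.Agent.H768

open Cfsg Cfsg.FusionSystem Cfsg.Agent.H752 Cfsg.Agent.H793

universe u

variable {Ω : Type u} [Group Ω] {S : Subgroup Ω} {F : FusionSystem S}

theorem mem_map_iff {T : Subgroup Ω} {L : Type*} [Group L] (ι : T →* L)
    (hι : Function.Injective ι) {W : Subgroup Ω} (z : T) :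
    ι z ∈ (W.subgroupOf T).map ι ↔ (z : Ω) ∈ W := by
  constructor
  · rintro ⟨w, hw, h⟩
    rw [hι h] at hw
    exact hw
  · intro h
    exact ⟨z, h, rfl⟩

/-- **Elements of `Z(S)` fixed by `Aut_F(W(S))` are central in `F`**, if the corresponding local statement on the
models of the `N_F(Q)`, `Q` centric and fully normalized, holds. -/
theorem mem_center_of_functor {p : ℕ} [Fact p.Prime] [Finite S] (hS : IsPGroup p S)
    (hF : F.IsSaturated p) {x : Ω} (hx : x ∈ S ⊓ Subgroup.centralizer (S : Set Ω))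
    (W : Subgroup Ω → Subgroup Ω) (hWle : ∀ T ≤ S, W T ≤ T) (hWx : ∀ T ≤ S, x ∈ T → x ∈ W T)
    (hWN : ∀ T ≤ S, Subgroup.normalizer (T : Set Ω) ≤ Subgroup.normalizer (W T : Set Ω))
    (hWS : ∀ f : Ω → Ω, Mp F S f → (∀ y ∈ S, f y ∈ S) → ∀ y ∈ W S, f y ∈ W S)
    (hJ : Good F x (W S))
    (hloc : ∀ Q : Subgroup Ω, F.IsFullyNormalized Q → F.IsCentric Q → x ∈ Q →
      ∀ E : FusionSystem (normalizerIn S Q), F.IsNormalizerSystem Q E →
      ∀ (L : Type u) [Group L] [Finite L] (ι : ↥(normalizerIn S Q) →* L), E.IsModel p L ι →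
      ((Q.subgroupOf (normalizerIn S Q)).map ι).Normal →
      ∀ hxN : x ∈ normalizerIn S Q,
      (∀ g ∈ Subgroup.normalizer ((((W (normalizerIn S Q)).subgroupOf (normalizerIn S Q)).map ι :
        Subgroup L) : Set L),
        g * ι ⟨x, hxN⟩ = ι ⟨x, hxN⟩ * g) → ∀ g : L, g * ι ⟨x, hxN⟩ = ι ⟨x, hxN⟩ * g) :
    x ∈ F.center := by
  classical
  have hxS : x ∈ S := hx.1
  have hgS : Good F x S := by
    intro f hf hfS hxS
    exact hJ f (hf.res (hWle S le_rfl)) (hWS f hf hfS) (hWx S le_rfl hxS)
  -- all fully normalized subgroups are good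
  have hall : ∀ R : Subgroup Ω, F.IsFullyNormalized R → Good F x R := by
    by_contra hcon
    push Not at hcon
    obtain ⟨R₀, hR₀n, hR₀b⟩ := hcon
    -- the lexicographically largest bad subgroup
    have hfinS := H793.finite_subgroups_le (S := S)
    let B : Set (Subgroup Ω) := {R | F.IsFullyNormalized R ∧ ¬ Good F x R}
    have hBfin : B.Finite := hfinS.subset fun R hR => hR.1.1
    let w : Subgroup Ω → ℕ := fun R =>
      Nat.card (normalizerIn S R) * (Nat.card S + 1) + Nat.card R
    obtain ⟨Q, hQB, hQmax⟩ := Set.exists_max_image B w hBfin ⟨R₀, hR₀n, hR₀b⟩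
    obtain ⟨hQn, hQb⟩ := hQB
    have hQS : Q ≤ S := hQn.1
    have hmax : ∀ R : Subgroup Ω, F.IsFullyNormalized R →
        (Nat.card (normalizerIn S Q) < Nat.card (normalizerIn S R) ∨
          (Nat.card (normalizerIn S Q) ≤ Nat.card (normalizerIn S R) ∧ Nat.card Q < Nat.card R)) →
        Good F x R := by
      intro R hRn hR
      by_contra hRb
      have h1 : w R ≤ w Q := hQmax R ⟨hRn, hRb⟩
      have h2 : Nat.card Q ≤ Nat.card S := Subgroup.card_le_of_le hQS
      simp only [w] at h1
      rcases hR with hR | ⟨hR, hR'⟩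
      · have h3 : (Nat.card (normalizerIn S Q) + 1) * (Nat.card S + 1) ≤
            Nat.card (normalizerIn S R) * (Nat.card S + 1) := Nat.mul_le_mul_right _ hR
        rw [Nat.add_mul, Nat.one_mul] at h3
        omega
      · have h3 : Nat.card (normalizerIn S Q) * (Nat.card S + 1) ≤
            Nat.card (normalizerIn S R) * (Nat.card S + 1) := Nat.mul_le_mul_right _ hR
        omega
    have hext := ext_of_good hS hF hx (Nat.card (normalizerIn S Q))
      (fun R hRn hR => hmax R hRn (Or.inl hR)) hgS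
    have hfix : ∀ (P : Subgroup Ω) (f : Ω → Ω), Mp F P f →
        Nat.card (normalizerIn S Q) ≤ Nat.card P → x ∈ P → f x = x :=
      fun P f hf ht hxP => fix_of_ext (hext P f hf ht) hxP
    have hQc : F.IsCentric Q := isCentric_of_bad hS hF hQn hQb hfix
      (fun R hRn h1 h2 => hmax R hRn (Or.inr ⟨h1, h2⟩))
    -- the model of `N_F(Q)`
    obtain ⟨E, hE⟩ := H802.exists_normalizerSystem F hQS
    have hEs : E.IsSaturated p := H802.normalizerSystem_isSaturated hS hF hQn hE
    have hNS : normalizerIn S Q ≤ S := inf_le_left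
    have hfinN : Finite (normalizerIn S Q) := H802.finite_of_le hNS
    have hNp : IsPGroup p (normalizerIn S Q) := hS.to_le hNS
    obtain ⟨L, hL, ι, hm, hQL, -⟩ := H771.exists_model hNp hEs
      (H753.isNormal_normalizerSystem hQS hE) (H753.isCentric_normalizerSystem hE hQc)
    have hfinL : Finite L := hm.1
    have hreal := hm.2.1
    have hιi : Function.Injective ι := hreal.1
    refine hQb fun f hf hfQ hxQ => ?_
    have hQN : Q ≤ normalizerIn S Q := H802.le_normalizerIn hQS
    have hxN : x ∈ normalizerIn S Q := hQN hxQ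
    -- `W(N_S(Q))` is good
    have hJle := hWle (normalizerIn S Q) hNS
    have hJg : Good F x (W (normalizerIn S Q)) := by
      by_cases hNeq : normalizerIn S Q = S
      · rw [hNeq]; exact hJ
      · have hJS : W (normalizerIn S Q) ≤ S := hJle.trans hNS
        have hle : normalizerIn S (normalizerIn S Q) ≤
            normalizerIn S (W (normalizerIn S Q)) :=
          inf_le_inf_left _ (hWN _ hNS)
        have hfinNN : Finite (normalizerIn S (W (normalizerIn S Q))) :=
          H802.finite_of_le inf_le_left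
        have hlt : Nat.card (normalizerIn S Q) <
            Nat.card (normalizerIn S (W (normalizerIn S Q))) :=
          (H802.card_lt_card_normalizerIn hS hNS hNeq).trans_le (Subgroup.card_le_of_le hle)
        obtain ⟨R', hRR', hR'n⟩ := H802.exists_isFullyNormalized hS hF hJS
        exact good_of_conj hS hF _ hfix hRR' hR'n hlt.le
          (hmax R' hR'n (Or.inl (hlt.trans_le (hR'n.2 _ (H802.isConj_symm hRR')))))
    -- `N_L(W)` centralizes `ι x`
    have hJL : ∀ g ∈ Subgroup.normalizer ((((W (normalizerIn S Q)).subgroupOf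
        (normalizerIn S Q)).map ι : Subgroup L) : Set L),
        g * ι ⟨x, hxN⟩ = ι ⟨x, hxN⟩ * g := by
      intro g hg
      obtain ⟨k, hk, hke⟩ := H753.exists_mp_of_conj hreal hJle g (fun y => by
        have h1 := (mem_map_iff ι hιi ⟨y, hJle y.2⟩).2 y.2
        have h2 := (Subgroup.mem_normalizer_iff.1 hg _).1 h1
        obtain ⟨n, -, hn⟩ := h2
        exact ⟨n, hn⟩)
      have hkF : Mp F (W (normalizerIn S Q)) k :=
        ((H753.mp_normalizerSystem_iff hE).1 hk).1
      have hxJ : x ∈ W (normalizerIn S Q) := hWx _ hNS hxN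
      have hkx := hJg k hkF (fun y hy => by
        obtain ⟨h1, h2⟩ := hke y hy
        have h3 := (mem_map_iff ι hιi ⟨y, hJle hy⟩).2 hy
        have h4 := (Subgroup.mem_normalizer_iff.1 hg _).1 h3
        rw [← h2] at h4
        exact (mem_map_iff ι hιi ⟨k y, h1⟩).1 h4) hxJ
      obtain ⟨h1, h2⟩ := hke x hxJ
      have h3 : (⟨k x, h1⟩ : ↥(normalizerIn S Q)) = ⟨x, hxN⟩ := Subtype.ext hkx
      rw [h3] at h2
      calc g * ι ⟨x, hxN⟩ = g * ι ⟨x, hxN⟩ * g⁻¹ * g := by group
        _ = ι ⟨x, hxN⟩ * g := by rw [← h2]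
    have hcen := hloc Q hQn hQc hxQ E hE L ι hm hQL hxN hJL
    -- `f` is induced by an element of `L`
    have hfE : Mp E Q f := by
      rw [H753.mp_normalizerSystem_iff hE]
      have hfinQ : Finite Q := H802.finite_of_le hQS
      refine ⟨hf, hQN, fun y hy => hQN (hfQ y hy), f, ?_, fun _ _ => rfl, hfQ,
        fun y hy => hf.surj hfQ hy⟩
      rw [sup_idem]
      exact hf
    obtain ⟨g, hg⟩ := H753.exists_conj_of_mp hreal hfE
    obtain ⟨h1, h2⟩ := hg x hxQ hxN
    rw [hcen g, mul_inv_cancel_right] at h2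
    exact congrArg Subtype.val (hιi h2)
  refine mem_center_of_ext hxS fun P f hf => ?_
  exact ext_of_good hS hF hx 0 (fun R hRn _ => hall R hRn) hgS P f hf (Nat.zero_le _)

end Cfsg.Agent.H768
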